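import Mathlib
import Cfsg.Prelude.Def_Blocks
import Cfsg.Agent.Characters.Core
import Cfsg.Agent.Characters.GaloisBasic
import Cfsg.Agent.CharactersDeep.CosetAverage
import Cfsg.Agent.Blocks.Local
import Cfsg.Agent.Blocks.Basic
import Cfsg.Agent.Blocks.Osima
import Cfsg.Agent.Blocks.PrincipalSection
import Cfsg.Agent.H727.CosetZero
import Cfsg.Agent.S0964
import Cfsg.Agent.H686.CharKit
set_option linter.all false

/-!
# Alperin's theorem on principal blocks (isomorphic blocks)
-/

set_option autoImplicit false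
set_option linter.unusedSectionVars false

namespace Cfsg.Agent.H685.Alperin

open Cfsg Cfsg.Agent.Blocks.Local Cfsg.Agent.Characters.Core
open scoped ComplexConjugate

universe u

variable {G : Type u} [Group G] [Finite G] {p : ℕ} [Fact p.Prime] {M : Ideal AlgInt}

/-- At an element whose class has length prime to `p`, a character in the principal block has
`χ g / χ 1 ≡ 1`. -/
theorem ratio_sub_one (hM : IsPModular p M) {χ : IrrCharacter G} (hχ : χ ∈ principalBlock M G)
    {g : G} (hg : ¬ p ∣ (Subgroup.centralizer ({g} : Set G)).index) :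
    MemLocalIdeal M ((χ : G → ℂ) g / (χ : G → ℂ) 1 - 1) := by
  have := isPrime_of_isPModular hM
  have h1 := (Blocks.PrincipalSection.mem_principalBlock_iff.1 hχ) g
  rw [Blocks.Basic.centralChar_def, Blocks.Basic.centralChar_def] at h1
  have h2 := memLocalIdeal_sub_comm h1
  have h3 := memLocalIdeal_mul_left (memLocalRing_inv_natCast hM hg) h2
  have h4 : ((Subgroup.centralizer ({g} : Set G)).index : ℂ) ≠ 0 := by
    intro h
    have : (Subgroup.centralizer ({g} : Set G)).index = 0 := by exact_mod_cast h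
    rw [this] at hg
    exact hg (dvd_zero p)
  have h5 : (χ : G → ℂ) 1 ≠ 0 := Blocks.Basic.irr_one_ne_zero χ.2
  convert h3 using 1
  field_simp

/-- An element centralizing a Sylow `p`-subgroup has class length prime to `p`. -/
theorem not_dvd_index_centralizer (P : Sylow p G) {g : G}
    (hg : g ∈ Subgroup.centralizer ((P : Subgroup G) : Set G)) :
    ¬ p ∣ (Subgroup.centralizer ({g} : Set G)).index := by
  have h1 : (P : Subgroup G) ≤ Subgroup.centralizer ({g} : Set G) := by
    intro x hx
    rw [Subgroup.mem_centralizer_iff]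
    intro y hy
    rw [Set.mem_singleton_iff] at hy
    subst hy
    exact ((Subgroup.mem_centralizer_iff.1 hg) x hx).symm
  intro h
  exact P.not_dvd_index (h.trans (Subgroup.index_dvd_of_le h1))

theorem ratio_sub_one_of_centralizer (hM : IsPModular p M) (P : Sylow p G) {χ : IrrCharacter G}
    (hχ : χ ∈ principalBlock M G) {g : G}
    (hg : g ∈ Subgroup.centralizer ((P : Subgroup G) : Set G)) :
    MemLocalIdeal M ((χ : G → ℂ) g / (χ : G → ℂ) 1 - 1) :=
  ratio_sub_one hM hχ (not_dvd_index_centralizer P hg)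

theorem apply_ne_zero_of_centralizer (hM : IsPModular p M) (P : Sylow p G) {χ : IrrCharacter G}
    (hχ : χ ∈ principalBlock M G) {g : G}
    (hg : g ∈ Subgroup.centralizer ((P : Subgroup G) : Set G)) : (χ : G → ℂ) g ≠ 0 := by
  have := isPrime_of_isPModular hM
  intro h
  have h1 := ratio_sub_one_of_centralizer hM P hχ hg
  rw [h, zero_div, zero_sub, memLocalIdeal_neg_iff] at h1
  exact not_memLocalIdeal_one h1

/-- Every coset of `N` meets `C_G(P)`. -/
theorem exists_mem_centralizer {N : Subgroup G} [N.Normal] (P : Sylow p G)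
    (hsup : N ⊔ Subgroup.centralizer ((P : Subgroup G) : Set G) = ⊤) (x : G) :
    ∃ n : N, (n : G) * x ∈ Subgroup.centralizer ((P : Subgroup G) : Set G) := by
  have hx : x ∈ N ⊔ Subgroup.centralizer ((P : Subgroup G) : Set G) := by rw [hsup]; trivial
  rw [← SetLike.mem_coe, Subgroup.normal_mul] at hx
  obtain ⟨n, hn, c, hc, rfl⟩ := Set.mem_mul.1 hx
  exact ⟨⟨n⁻¹, N.inv_mem hn⟩, by simpa using hc⟩

theorem isIrr_restrict (hM : IsPModular p M) {N : Subgroup G} [N.Normal] (P : Sylow p G)
    (hsup : N ⊔ Subgroup.centralizer ((P : Subgroup G) : Set G) = ⊤) {χ : IrrCharacter G}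
    (hχ : χ ∈ principalBlock M G) : IsIrrCharacter N (fun n : N => (χ : G → ℂ) n) := by
  by_contra hcon
  obtain ⟨x, hx⟩ := H727.CosetZero.exists_coset_zero N χ.2 hcon
  obtain ⟨n, hn⟩ := exists_mem_centralizer P hsup x
  exact apply_ne_zero_of_centralizer hM P hχ hn (hx n)

/-- The restriction of a member of the principal block of `G` lies in the principal block
of `N`. -/
theorem restrict_mem (hM : IsPModular p M) {N : Subgroup G} [hN : N.Normal]
    {χ : IrrCharacter G} (hχ : χ ∈ principalBlock M G)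
    (hirr : IsIrrCharacter N (fun n : N => (χ : G → ℂ) n)) :
    (⟨fun n : N => (χ : G → ℂ) n, hirr⟩ : IrrCharacter N) ∈ principalBlock M N := by
  classical
  have := isPrime_of_isPModular hM
  have := Fintype.ofFinite G
  have := Fintype.ofFinite N
  obtain ⟨g, θ', hθ', h⟩ := Cfsg.Agent.S0964.result p M hM N (principalBlock M G)
    Blocks.PrincipalSection.isPBlock_principalBlock (principalBlock M N)
    Blocks.PrincipalSection.isPBlock_principalBlock _
    Blocks.PrincipalSection.one_mem_principalBlock _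
    Blocks.PrincipalSection.one_mem_principalBlock
    (by
      show classInner (fun n : N => (1 : ℂ)) (fun n : N => (1 : ℂ)) ≠ 0
      have := classInner_irr_self (isIrr_one (G := N))
      rw [show (fun n : N => (1 : ℂ)) = (1 : N → ℂ) from rfl, this]
      exact one_ne_zero)
    χ hχ ⟨fun n : N => (χ : G → ℂ) n, hirr⟩
    (by
      show classInner (fun n : N => (χ : G → ℂ) n) (fun n : N => (χ : G → ℂ) n) ≠ 0
      rw [classInner_irr_self hirr]
      exact one_ne_zero)
  have h1 : θ' = ⟨fun n : N => (χ : G → ℂ) n, hirr⟩ := by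
    apply Subtype.ext
    funext n
    have h2 := h ⟨g⁻¹ * n * g, by
      have := hN.conj_mem n n.2 g⁻¹
      simpa using this⟩
    have h3 : (⟨g * (g⁻¹ * n * g) * g⁻¹, by
      have : g * (g⁻¹ * n * g) * g⁻¹ = n := by group
      rw [this]; exact n.2⟩ : N) = n := by
      apply Subtype.ext
      show g * (g⁻¹ * n * g) * g⁻¹ = n
      group
    show (θ' : N → ℂ) n = (χ : G → ℂ) n
    have h4 : (χ : G → ℂ) (g⁻¹ * n * g) = (χ : G → ℂ) n := by
      have := isIrr_isClassFunction χ.2 (n : G) g⁻¹
      rwa [inv_inv] at this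
    rw [← h4]
    refine Eq.trans ?_ h2.symm
    exact congrArg (θ' : N → ℂ) h3.symm
  rw [← h1]
  exact hθ'

/-- Over a `p'`-group, an irreducible character with all ratios congruent to `1` is trivial. -/
theorem eq_one_of_ratio {Q : Type*} [Group Q] [Finite Q] (hM : IsPModular p M)
    (hQ : ¬ p ∣ Nat.card Q) {β : Q → ℂ} (hβ : IsIrrCharacter Q β)
    (h : ∀ q, MemLocalIdeal M (β q / β 1 - 1)) : β = 1 := by
  classical
  have := isPrime_of_isPModular hM
  have := Fintype.ofFinite Q
  by_contra hne
  have h1 := classInner_irr_ne hβ isIrr_one hne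
  rw [classInner_def] at h1
  have h2 : ∑ q : Q, β q = 0 := by
    rcases mul_eq_zero.1 h1 with h0 | h0
    · exact absurd h0 (inv_ne_zero card_ne_zero_complex)
    · simpa using h0
  have h3 : MemLocalIdeal M (∑ q : Q, (β q / β 1 - 1)) :=
    memLocalIdeal_sum fun q _ => h q
  rw [Finset.sum_sub_distrib, ← Finset.sum_div, h2, zero_div, zero_sub, memLocalIdeal_neg_iff,
    Finset.sum_const, nsmul_eq_mul, mul_one, Finset.card_univ, ← Nat.card_eq_fintype_card,
    memLocalIdeal_natCast_iff hM] at h3
  exact hQ h3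

/-- An irreducible character of `G`, constant on the cosets of a normal subgroup `N` of index
prime to `p`, with ratios congruent to `1` on `C_G(P)`, is trivial if `G = N C_G(P)`. -/
theorem eq_one_of_coset {N : Subgroup G} [N.Normal] (hM : IsPModular p M) (hidx : ¬ p ∣ N.index)
    (P : Sylow p G) (hsup : N ⊔ Subgroup.centralizer ((P : Subgroup G) : Set G) = ⊤)
    {η : G → ℂ} (hη : IsIrrCharacter G η) (hinv : ∀ (n : N) (g : G), η ((n : G) * g) = η g)
    (h : ∀ g ∈ Subgroup.centralizer ((P : Subgroup G) : Set G), MemLocalIdeal M (η g / η 1 - 1)) :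
    η = 1 := by
  obtain ⟨β, hβ⟩ := H686.CharKit.exists_infl N ⟨η, hη⟩ (by
    intro n hn
    rw [H686.CharKit.mem_chKer]
    have := hinv ⟨n, hn⟩ 1
    rwa [mul_one] at this)
  have hβ' : ∀ g : G, (β : G ⧸ N → ℂ) (g : G ⧸ N) = η g := by
    intro g
    rw [← H686.CharKit.infl_apply, hβ]
  have h1 : (β : G ⧸ N → ℂ) = 1 := by
    refine eq_one_of_ratio hM (by rwa [← Subgroup.index_eq_card]) β.2 ?_
    intro q
    obtain ⟨x, rfl⟩ := QuotientGroup.mk_surjective q
    obtain ⟨n, hn⟩ := exists_mem_centralizer P hsup x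
    have h2 := h _ hn
    rw [hinv, ← hβ' x, ← hβ' 1] at h2
    exact h2
  funext g
  rw [← hβ' g, h1]
  rfl

theorem eq_one_of_over_one (hM : IsPModular p M) {N : Subgroup G} [N.Normal] [Fintype N]
    (hidx : ¬ p ∣ N.index) (P : Sylow p G)
    (hsup : N ⊔ Subgroup.centralizer ((P : Subgroup G) : Set G) = ⊤) {χ : IrrCharacter G}
    (hχ : χ ∈ principalBlock M G)
    (hover : classInner (1 : N → ℂ) (fun n : N => (χ : G → ℂ) n) ≠ 0) : (χ : G → ℂ) = 1 := by
  have hirr := isIrr_restrict hM P hsup hχ
  have h1 : (1 : N → ℂ) = (fun n : N => (χ : G → ℂ) n) := by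
    by_contra hne
    exact hover (classInner_irr_ne isIrr_one hirr hne)
  have h2 : ∀ n : N, (χ : G → ℂ) n = 1 := fun n => (congrFun h1 n).symm
  have h3 : (χ : G → ℂ) 1 = 1 := h2 1
  refine eq_one_of_coset hM hidx P hsup χ.2 ?_ fun g hg =>
    ratio_sub_one_of_centralizer hM P hχ hg
  intro n g
  exact H686.CharKit.apply_mul_of_eq (isIrr_isCharacter χ.2) (by rw [h2 n, h3]) g

theorem exists_over (hM : IsPModular p M) {N : Subgroup G} [hN : N.Normal] [Fintype N]
    (hidx : ¬ p ∣ N.index) (P : Sylow p G)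
    (hsup : N ⊔ Subgroup.centralizer ((P : Subgroup G) : Set G) = ⊤) {θ : IrrCharacter N}
    (hθ : θ ∈ principalBlock M N) :
    ∃ χ ∈ principalBlock M G, classInner (θ : N → ℂ) (fun n : N => (χ : G → ℂ) n) ≠ 0 := by
  classical
  have := isPrime_of_isPModular hM
  have := Fintype.ofFinite G
  have := finite_irr (G := G)
  have := Fintype.ofFinite (IrrCharacter G)
  by_contra hcon
  push Not at hcon
  set f : N → ℂ := fun n => blockCoeff (principalBlock M G) (n : G) with hf
  have hBG : IsPBlock M (principalBlock M G) := Blocks.PrincipalSection.isPBlock_principalBlock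
  -- the sum against a function
  have key : ∀ φ : N → ℂ, ∑ n : N, f n * φ n = (Nat.card G : ℂ)⁻¹ * ∑ χ : IrrCharacter G,
      if χ ∈ principalBlock M G then
        (χ : G → ℂ) 1 * ((Nat.card N : ℂ) * classInner φ (fun n : N => (χ : G → ℂ) n)) else 0 := by
    intro φ
    have h1 : ∀ n : N, f n * φ n = (Nat.card G : ℂ)⁻¹ * ∑ χ : IrrCharacter G,
        if χ ∈ principalBlock M G then (χ : G → ℂ) 1 * (φ n * conj ((χ : G → ℂ) n)) else 0 := by
      intro n
      rw [hf]
      simp only
      rw [Blocks.Osima.blockCoeff_eq_sum, mul_assoc, Finset.sum_mul]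
      congr 1
      refine Finset.sum_congr rfl fun χ _ => ?_
      split_ifs
      · ring
      · ring
    rw [Finset.sum_congr rfl fun n _ => h1 n, ← Finset.mul_sum, Finset.sum_comm]
    congr 1
    refine Finset.sum_congr rfl fun χ _ => ?_
    split_ifs
    · rw [← Finset.mul_sum, classInner_def, mul_inv_cancel_left₀ card_ne_zero_complex]
    · simp
  set a : MonoidAlgebra ℂ N := Blocks.Central.ofFun f with ha
  have haR : a ∈ Blocks.Osima.centerR hM := by
    refine ⟨Blocks.Central.ofFun_mem_center_iff.2 ?_, fun n => ?_⟩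
    · intro n m
      exact Blocks.Osima.isClassFunction_blockCoeff (principalBlock M G) (n : G) (m : G)
    · rw [ha, Blocks.Central.coeff_ofFun]
      exact Blocks.Osima.memLocalRing_blockCoeff hM hBG _
  have h1 := Blocks.Osima.memLocalIdeal_omegaL_sub hM
    (Blocks.Basic.isIrrCharacter_one (G := N)) θ.2
    (Blocks.PrincipalSection.mem_principalBlock_iff.1 hθ) haR
  rw [Blocks.Central.omegaL_apply, Blocks.Central.omegaL_apply] at h1
  simp only [ha, Blocks.Central.coeff_ofFun] at h1
  rw [key, key] at h1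
  have h2 : ∀ χ : IrrCharacter G, (if χ ∈ principalBlock M G then
      (χ : G → ℂ) 1 * ((Nat.card N : ℂ) * classInner (θ : N → ℂ) (fun n : N => (χ : G → ℂ) n))
      else 0) = 0 := by
    intro χ
    split_ifs with h
    · rw [hcon χ h]; ring
    · rfl
  rw [Finset.sum_congr rfl fun χ _ => h2 χ, Finset.sum_const_zero, mul_zero, zero_div, sub_zero,
    div_one] at h1
  have h3 : ∀ χ : IrrCharacter G, (if χ ∈ principalBlock M G then
      (χ : G → ℂ) 1 * ((Nat.card N : ℂ) * classInner (fun _ : N => (1 : ℂ))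
        (fun n : N => (χ : G → ℂ) n)) else 0) =
      if χ = ⟨fun _ => 1, Blocks.Basic.isIrrCharacter_one⟩ then (Nat.card N : ℂ) else 0 := by
    intro χ
    by_cases hχ : χ = ⟨fun _ => 1, Blocks.Basic.isIrrCharacter_one⟩
    · rw [if_pos hχ, hχ, if_pos Blocks.PrincipalSection.one_mem_principalBlock]
      show (1 : ℂ) * ((Nat.card N : ℂ) * classInner (fun _ : N => (1 : ℂ)) (fun _ : N => (1 : ℂ)))
        = _
      rw [show (fun n : N => (1 : ℂ)) = (1 : N → ℂ) from rfl, classInner_irr_self isIrr_one]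
      ring
    · rw [if_neg hχ]
      split_ifs with h
      · have h4 : classInner (fun _ : N => (1 : ℂ)) (fun n : N => (χ : G → ℂ) n) = 0 := by
          by_contra h5
          exact hχ (Subtype.ext (eq_one_of_over_one hM hidx P hsup h h5))
        rw [h4]; ring
      · rfl
  rw [Finset.sum_congr rfl fun χ _ => h3 χ, Finset.sum_ite_eq' Finset.univ, if_pos (Finset.mem_univ _)] at h1
  have h4 : (Nat.card G : ℂ)⁻¹ * (Nat.card N : ℂ) = ((N.index : ℕ) : ℂ)⁻¹ := by
    rw [← N.card_mul_index, Nat.cast_mul, mul_inv, mul_comm, ← mul_assoc,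
      mul_inv_cancel₀ card_ne_zero_complex, one_mul]
  rw [h4] at h1
  have h5 : MemLocalIdeal M ((N.index : ℂ) * ((N.index : ℕ) : ℂ)⁻¹) :=
    memLocalIdeal_mul_left (memLocalRing_natCast _) h1
  rw [mul_inv_cancel₀ (by exact_mod_cast Subgroup.index_ne_zero_of_finite)] at h5
  exact not_memLocalIdeal_one h5

theorem unique (hM : IsPModular p M) {N : Subgroup G} [hN : N.Normal]
    (hidx : ¬ p ∣ N.index) (P : Sylow p G)
    (hsup : N ⊔ Subgroup.centralizer ((P : Subgroup G) : Set G) = ⊤) {χ χ' : IrrCharacter G}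
    (hχ : χ ∈ principalBlock M G) (hχ' : χ' ∈ principalBlock M G)
    (h : ∀ n : N, (χ' : G → ℂ) n = (χ : G → ℂ) n) : χ' = χ := by
  classical
  have := isPrime_of_isPModular hM
  have := Fintype.ofFinite G
  have := Fintype.ofFinite N
  have hirr := isIrr_restrict hM P hsup hχ
  have heq : (fun n : N => (χ' : G → ℂ) n) = (fun n : N => (χ : G → ℂ) n) := funext h
  obtain ⟨η, hη, hinv, hmul⟩ := CharactersDeep.CosetAverage.exists_irr_mul N (χ : G → ℂ) χ.2 hirr
    (χ' : G → ℂ) χ'.2 (by rw [heq, classInner_irr_self hirr]; exact one_ne_zero)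
  have hχ1 : (χ : G → ℂ) 1 ≠ 0 := Blocks.Basic.irr_one_ne_zero χ.2
  have h1 : η 1 = 1 := by
    have h2 := congrFun hmul 1
    have h3 := h 1
    rw [OneMemClass.coe_one] at h3
    rw [Pi.mul_apply, h3] at h2
    exact mul_left_cancel₀ hχ1 (by rw [← h2, mul_one])
  have hη1 : η = 1 := by
    refine eq_one_of_coset hM hidx P hsup hη hinv fun g hg => ?_
    have hu := ratio_sub_one_of_centralizer hM P hχ hg
    have huv := ratio_sub_one_of_centralizer hM P hχ' hg
    rw [hmul, Pi.mul_apply, Pi.mul_apply, h1, mul_one] at huv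
    have hv : MemLocalRing M (η g) :=
      memLocalRing_of_isIntegral (Characters.GaloisBasic.isIntegral_apply (isIrr_isCharacter hη) g)
    have h2 := memLocalIdeal_sub huv (memLocalIdeal_mul_left hv hu)
    rw [h1, div_one]
    convert h2 using 1
    field_simp
    ring
  apply Subtype.ext
  rw [hmul, hη1, mul_one]

end Cfsg.Agent.H685.Alperin
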