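import Cfsg.Agent.Nodes.HasRGD
import Mathlib
import Cfsg.Prelude.Def_LieTypeChar
import Cfsg.Agent.Nodes.RGDTypeA
import Cfsg.Agent.Nodes.RGDChev
import Cfsg.Agent.Nodes.RGDTwNode
import Cfsg.Agent.Nodes.WittInst
import Cfsg.Agent.FastGrp
import Cfsg.Agent.Prune
set_option linter.all false
prune_inst 0x7f00000000000000000000000000000000000000000000000000000000000000000000000000000000000000000000000000000000000000000000000000000000000000000000000000000000000000003fffffffffffffffffffffffffffbeffbdffffffff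
open scoped Cfsg.Agent.FastGrp

-- part: H762/Defs
section
/-!
helper762 (S3263): root group data of characteristic two whose nodes contain an element of order three.

* `HasThree G` : `G` has a root group datum of characteristic two such that every fundamental root group contains an
  involution `a` with `n a n⁻¹ = a n a`;
* `cube_of_node` : then `(a · n a n⁻¹)³ = 1`.
-/

set_option autoImplicit false

namespace Cfsg.Agent.H762

open CoxeterSystem Cfsg.Agent.ChevalleyStructure.CoxeterGeom Cfsg.Agent.Tits.Roots Cfsg.Agent.Tits.Core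
  Cfsg.Agent.Tits.RootComb Cfsg.Agent.Nodes.Comb Cfsg.Agent.Nodes.Reps Cfsg.Agent.Nodes.BNOf

/-- every fundamental root group contains an involution `a` with `n a n⁻¹ = a n a` -/
def NodeThree {G : Type*} [Group G] {I : Type*} [DecidableEq I] (n : I → G) (X : (I → ℤ) → Subgroup G) : Prop :=
  ∀ i, ∃ a ∈ X (sr i), a * a = 1 ∧ a ≠ 1 ∧ n i * a * (n i)⁻¹ = a * n i * a

/-- a root group datum of characteristic two whose root groups generate, with `NodeThree` -/
def HasThree (G : Type*) [Group G] : Prop :=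
  ∃ (l : ℕ) (M : CoxeterMatrix (Fin l)) (A : Fin l → Fin l → ℤ) (h : IsCartan M A) (T : Subgroup G) (n : Fin l → G)
    (X : (Fin l → ℤ) → Subgroup G), Finite M.Group ∧ RGD M.toCoxeterSystem h 2 T n X ∧
      Nodes.RGDLib.G1 M.toCoxeterSystem h X = ⊤ ∧ NodeThree n X

theorem HasThree.of_equiv {G H : Type*} [Group G] [Group H] (e : G ≃* H) (hG : HasThree G) : HasThree H := by
  obtain ⟨l, M, A, h, T, n, X, hW, R, hX, h3⟩ := hG
  refine ⟨l, M, A, h, T.map e.toMonoidHom, fun i => e (n i), fun x => (X x).map e.toMonoidHom, hW,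
    Nodes.RGDLib.rgd_map_of_injective R e.toMonoidHom e.injective, ?_, fun i => ?_⟩
  · have h1 : (Nodes.RGDLib.G1 M.toCoxeterSystem h X).map e.toMonoidHom =
        Nodes.RGDLib.G1 M.toCoxeterSystem h (fun x => (X x).map e.toMonoidHom) := by
      unfold Nodes.RGDLib.G1 RGD.Sup
      rw [Subgroup.map_iSup]
    rw [← h1, hX, Subgroup.map_top_of_surjective _ e.surjective]
  · obtain ⟨a, ha, h2, h1, h4⟩ := h3 i
    refine ⟨e a, Subgroup.mem_map_of_mem _ ha, by rw [← map_mul, h2, map_one],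
      fun h => h1 (e.injective (by rw [h, map_one])), ?_⟩
    rw [← map_inv, ← map_mul, ← map_mul, ← map_mul, ← map_mul, h4]

/-- an involution `a` with `n a n⁻¹ = a n a` gives an element of order three -/
theorem cube_of_node {G : Type*} [Group G] {a n : G} (h2 : a * a = 1) (h : n * a * n⁻¹ = a * n * a) :
    a * (n * a * n⁻¹) * (a * (n * a * n⁻¹)) * (a * (n * a * n⁻¹)) = 1 := by
  set b := n * a * n⁻¹ with hb
  have hbb : b * b = 1 := by
    rw [hb]
    calc n * a * n⁻¹ * (n * a * n⁻¹) = n * (a * a) * n⁻¹ := by group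
      _ = 1 := by rw [h2, mul_one, mul_inv_cancel]
  -- `n = a b a`
  have hn : n = a * b * a := by
    rw [h]
    calc n = (a * a) * n * (a * a) := by rw [h2, one_mul, mul_one]
      _ = a * (a * n * a) * a := by group
  have hn1 : n⁻¹ = a * b * a := by
    rw [inv_eq_iff_mul_eq_one]
    nth_rewrite 1 [hn]
    calc a * b * a * (a * b * a) = a * b * (a * a) * b * a := by group
      _ = 1 := by rw [h2, mul_one, mul_assoc a b b, hbb, mul_one, h2]
  have h3 : b = a * b * a * b * a := by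
    have h4 : b = n * a * n⁻¹ := rfl
    rw [hn1] at h4
    nth_rewrite 1 [hn] at h4
    calc b = a * b * a * a * (a * b * a) := h4
      _ = a * b * (a * a) * a * b * a := by group
      _ = a * b * a * b * a := by rw [h2, mul_one]
  calc a * b * (a * b) * (a * b) = (a * b * a * b * a) * b := by group
    _ = 1 := by rw [← h3, hbb]

end Cfsg.Agent.H762
end

-- part: H685/ThreePSL
section
/-!
helper685 (task 176, S3263): `HasThree` for `PSL_n` in characteristic two.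

* `node_core` : `a² = 1`, `n = a b a`, `n a n⁻¹ = b` give `n a n⁻¹ = a n a`;
* `hasThree_psl`.
-/

set_option autoImplicit false

namespace Cfsg.Agent.H685.Three

open Matrix CoxeterSystem Cfsg.Agent.ChevalleyStructure.CoxeterGeom Cfsg.Agent.Tits.Roots
open Cfsg.Agent.Nodes Cfsg.Agent.Nodes.Reps Cfsg.Agent.Nodes.BNOf Cfsg.Agent.Nodes.RGDLib Cfsg.Agent.Nodes.RootsA
open Cfsg.Agent.LieRecognition.BNCox (cA)
open Cfsg.Agent.TitsThree.KSideA (tv tv_of_ne tv_add tv_zero tv_neg tv_comm tv_commute diag2n_eq)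

/-- `a² = 1`, `n = a b a`, `n a n⁻¹ = b` give `n a n⁻¹ = a n a`. -/
theorem node_core {G : Type*} [Group G] {a b n : G} (h2 : a * a = 1) (hn : n = a * b * a)
    (hb : n * a * n⁻¹ = b) : n * a * n⁻¹ = a * n * a := by
  rw [hb, hn]
  calc b = (a * a) * b * (a * a) := by rw [h2, one_mul, mul_one]
    _ = a * (a * b * a) * a := by group

section PSL

variable {n : ℕ} {F : Type*} [Field F]

theorem neg_one_eq (h2 : (2 : F) = 0) : (-1 : F) = 1 := by
  linear_combination (-1 : F) * h2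

theorem tv_sq {a b : Fin (n + 1)} (h2 : (2 : F) = 0) : tv a b (1 : F) * tv a b 1 = 1 := by
  rw [← tv_add, one_add_one_eq_two, h2, tv_zero]

theorem ns_conj (h2 : (2 : F) = 0) (i : Fin n) :
    RGDTypeA.ns n F i * tv i.castSucc i.succ 1 * (RGDTypeA.ns n F i)⁻¹ = tv i.succ i.castSucc 1 := by
  have hne : i.castSucc ≠ i.succ := (Fin.castSucc_lt_succ).ne
  rw [(RGDTypeA.mono_ns i).conj_tv hne, Equiv.swap_apply_left, Equiv.swap_apply_right]
  congr 1
  have e1 : (RGDTypeA.ns n F i).1 i.succ i.castSucc = -1 := by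
    rw [RGDTypeA.apply_eq_smul, RGDTypeA.ns, RGDTypeA.nn_smul hne one_ne_zero, if_neg hne.symm, if_pos rfl,
      Pi.single_eq_same]
    norm_num
  have e2 : (RGDTypeA.ns n F i).1 i.castSucc i.succ = 1 := by
    rw [RGDTypeA.apply_eq_smul, RGDTypeA.ns, RGDTypeA.nn_smul hne one_ne_zero, if_pos rfl, Pi.single_eq_same, one_mul]
  rw [e1, e2, neg_one_eq h2]
  norm_num

theorem ns_eq (h2 : (2 : F) = 0) (i : Fin n) :
    RGDTypeA.ns n F i = tv i.castSucc i.succ 1 * tv i.succ i.castSucc 1 * tv i.castSucc i.succ 1 := by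
  rw [RGDTypeA.ns, RGDTypeA.nn, inv_one, neg_one_eq h2]

theorem tv_ne (i : Fin n) : tv i.succ i.castSucc (1 : F) ≠ tv i.castSucc i.succ 1 := by
  intro e
  have hne : i.castSucc ≠ i.succ := (Fin.castSucc_lt_succ).ne
  have h1 := congrArg (fun g : _root_.Matrix.SpecialLinearGroup (Fin (n + 1)) F => g.1 i.castSucc i.succ) e
  simp only [RGDTypeA.tv_val hne, RGDTypeA.tv_val hne.symm, Matrix.add_apply, Matrix.one_apply_ne hne,
    Matrix.single_apply_same, zero_add] at h1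
  rw [Matrix.single_apply_of_ne] at h1
  · exact zero_ne_one h1
  · rintro ⟨h3, -⟩
    exact hne h3.symm

theorem nodeThree_psl (h2 : (2 : F) = 0) :
    H762.NodeThree (fun i => RGDTypeA.pr n F (RGDTypeA.ns n F i))
      (fun x => (RGDTypeA.X F x).map (RGDTypeA.pr n F)) := by
  intro i
  refine ⟨RGDTypeA.pr n F (tv i.castSucc i.succ 1), Subgroup.mem_map_of_mem _ ?_, ?_, ?_, ?_⟩
  · rw [RGDTypeA.X_sr]
    exact RGDTypeA.tv_mem_XX _ _ _
  · rw [← map_mul, tv_sq h2, map_one]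
  · intro h1
    have h3 : tv i.castSucc i.succ (1 : F) ∈ (RGDTypeA.pr n F).ker := h1
    rw [RGDTypeA.ker_pr, Subgroup.mem_center_iff] at h3
    have h4 := h3 (RGDTypeA.ns n F i)
    have h5 := ns_conj h2 i
    rw [h4, mul_inv_cancel_right] at h5
    exact tv_ne i h5.symm
  · change RGDTypeA.pr n F (RGDTypeA.ns n F i) * _ * (RGDTypeA.pr n F (RGDTypeA.ns n F i))⁻¹ =
      _ * RGDTypeA.pr n F (RGDTypeA.ns n F i) * _
    rw [← map_inv, ← map_mul, ← map_mul, ← map_mul, ← map_mul,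
      node_core (tv_sq h2) (ns_eq h2 i) (ns_conj h2 i)]

end PSL

theorem two_eq_zero {F : Type*} [Field F] [CharP F 2] : (2 : F) = 0 := by
  have := CharP.cast_eq_zero F 2
  exact_mod_cast this

theorem hasThree_PSL {F : Type*} [Field F] [Finite F] (n : ℕ) [CharP F 2] :
    H762.HasThree (Matrix.ProjectiveSpecialLinearGroup (Fin (n + 1)) F) :=
  have : Finite (cA n).Group := RootsA.finite_W (cA n).toCoxeterSystem (RootsA.isCartan n)
  have : Fact (Nat.Prime 2) := ⟨Nat.prime_two⟩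
  ⟨n, cA n, RootsA.AA n, RootsA.isCartan n, _, _, _, ‹Finite (cA n).Group›,
    RGDTypeA.rgd_psl _ _, RGDTypeA.G1_psl_eq_top _ _, nodeThree_psl two_eq_zero⟩

/-- **`PSL_n` of characteristic two.** -/
theorem hasThree_psl {G : Type*} [Group G] (hG : Cfsg.IsPSLChar 2 G) : H762.HasThree G := by
  obtain ⟨F, _, _, _, n, hn, -, ⟨e⟩⟩ := hG
  obtain ⟨n, rfl⟩ : ∃ k, n = k + 1 := ⟨n - 1, by omega⟩
  exact (hasThree_PSL n).of_equiv e.symm

end Cfsg.Agent.H685.Three
end

-- part: H685/ThreeExc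
section
/-!
helper685 (task 176, S3263): `HasThree` for the exceptional Chevalley groups and for `²E₆(q)`, `³D₄(q)` in
characteristic two.

* `nodeThree_sl` : a node homomorphism from `SL(2, F)`, `2 = 0` in `F`, gives the element;
* `hasThree_exc`, `hasThree_tw`.
-/

set_option autoImplicit false
set_option linter.unusedSectionVars false
set_option maxHeartbeats 400000

namespace Cfsg.Agent.H685.Three

open CoxeterSystem Cfsg.Agent.ChevalleyStructure.CoxeterGeom Cfsg.Agent.Tits.Roots Cfsg.Agent.Tits.Core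
  Cfsg.Agent.Tits.RootComb Cfsg.Agent.Nodes.Comb Cfsg.Agent.Nodes.Reps Cfsg.Agent.Nodes.BNOf Cfsg.Agent.Nodes.BNOf.RGD
open Cfsg.Lie Cfsg.Agent.ChevalleyStructure Cfsg.Agent.ChevalleyStructure.Elts
  Cfsg.Agent.ChevalleyStructure.NPerm Cfsg.Agent.ChevalleyStructure.CoxeterGeomTypes Cfsg.Agent.Nodes.RGDChev Cfsg.Agent.Nodes.RGDFold Cfsg.Agent.Nodes.RGDFoldSL
open Cfsg.Agent.ChevalleyStructure.SL2Hom (up lo)

universe u

section SL

variable {F : Type*} [Field F]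

theorem up_zero : (up (0 : F) : Matrix.SpecialLinearGroup (Fin 2) F) = 1 := by
  apply Subtype.ext
  show (!![1, 0; 0, 1] : Matrix (Fin 2) (Fin 2) F) = 1
  exact Matrix.one_fin_two.symm

theorem up_sq (h2 : (2 : F) = 0) : (up (1 : F) : Matrix.SpecialLinearGroup (Fin 2) F) * up 1 = 1 := by
  apply Subtype.ext
  show (!![1, 1; 0, 1] : Matrix (Fin 2) (Fin 2) F) * !![1, 1; 0, 1] = 1
  have h4 : (1 : F) + 1 = 0 := by rw [one_add_one_eq_two, h2]
  rw [Matrix.mul_fin_two, Matrix.one_fin_two]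
  simp [h4]

theorem wS_conj (h2 : (2 : F) = 0) : (wS (1 : F) : Matrix.SpecialLinearGroup (Fin 2) F) * up 1 * (wS 1)⁻¹ =
    lo (-(1 : F)⁻¹) := by
  rw [lo_eq]
  have h1 : -(-(1 : F)⁻¹) = 1 := by rw [neg_neg, inv_one]
  rw [h1]

theorem wS_eq : (wS (1 : F) : Matrix.SpecialLinearGroup (Fin 2) F) = up 1 * lo (-(1 : F)⁻¹) * up 1 := by
  unfold wS
  rw [mul_assoc]

/-- A node homomorphism from `SL(2, F)` in characteristic two. -/
theorem node_sl {G : Type*} [Group G] (h2 : (2 : F) = 0) (φ : Matrix.SpecialLinearGroup (Fin 2) F →* G) {S : Subgroup G}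
    (hS : φ (up 1) ∈ S) (h1 : φ (up 1) ≠ 1) {n : G} (hn : φ (wS 1) = n) :
    ∃ a ∈ S, a * a = 1 ∧ a ≠ 1 ∧ n * a * n⁻¹ = a * n * a := by
  refine ⟨φ (up 1), hS, by rw [← map_mul, up_sq h2, map_one], h1, ?_⟩
  rw [← hn, ← map_inv, ← map_mul, ← map_mul, ← map_mul, ← map_mul, node_core (up_sq h2) wS_eq (wS_conj h2)]

end SL

section Chev

variable {D : ChevalleyDatum} {l : ℕ} {M : CoxeterMatrix (Fin l)}

theorem nodeThree_chev (hp : IsType D l M) (K : Type u) [Field K] (h2 : (2 : K) = 0) :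
    H762.NodeThree (fun i => (⟨nn hp K i, nn_mem_group hp i⟩ : ↥(D.group K)))
      (fun x => (XV D l K x).subgroupOf (D.group K)) := by
  intro i
  have h := simple_lt hp.inList (lt_rank hp i)
  have hmem : ∀ g, psi hp.inList K (D.simple i) g ∈ D.group K := by
    intro g
    have h1 := psi_mem (K := K) hp.inList h g
    rw [← XV_sr hp, ← XV_neg_sr hp] at h1
    exact sup_le (XV_le_group hp _) (XV_le_group hp _) h1
  refine node_sl h2 ((psi hp.inList K (D.simple i)).codRestrict (D.group K) hmem) ?_ ?_ ?_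
  · rw [Subgroup.mem_subgroupOf, XV_sr hp]
    show psi hp.inList K (D.simple i) (up 1) ∈ D.rootSubgroup K (D.simple i)
    rw [psi_up hp.inList h]
    exact xG_mem_rootSubgroup hp.inList _ _
  · intro h1
    have h3 : psi hp.inList K (D.simple i) (up 1) = 1 := congrArg Subtype.val h1
    rw [psi_up hp.inList h, ← xG_zero hp.inList (D.simple i)] at h3
    exact one_ne_zero (xG_injective hp.inList h h3)
  · apply Subtype.ext
    exact psi_wS hp.inList h 1

theorem hasThree_group (hp : IsType D l M) (K : Type u) [Field K] [Finite K] [CharP K 2] :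
    H762.HasThree ↥(D.group K) := by
  have : Fact (Nat.Prime 2) := ⟨Nat.prime_two⟩
  exact ⟨l, M, cartanOf D l, hp.isCartan, _, _, _, _root_.Cfsg.Agent.Nodes.RGDChev.finite_W hp M.toCoxeterSystem,
    _root_.Cfsg.Agent.Nodes.RGDChev.rgd (K := K) hp M.toCoxeterSystem 2, _root_.Cfsg.Agent.Nodes.RGDChev.G1_eq_top hp _, nodeThree_chev hp K two_eq_zero⟩

/-- **The exceptional Chevalley groups of characteristic two.** -/
theorem hasThree_exc {G : Type*} [Group G] (hG : Cfsg.IsExceptionalChevChar 2 G) : H762.HasThree G := by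
  obtain ⟨F, _, _, _, ⟨-, ⟨e⟩⟩ | ⟨⟨e⟩⟩ | ⟨⟨e⟩⟩ | ⟨⟨e⟩⟩ | ⟨⟨e⟩⟩⟩ := hG
  · exact (hasThree_group (l := 2) (M := CoxeterMatrix.G₂) (by simp [IsType, typeList]) F).of_equiv e.symm
  · exact (hasThree_group (l := 4) (M := CoxeterMatrix.F₄) (by simp [IsType, typeList]) F).of_equiv e.symm
  · exact (hasThree_group (l := 6) (M := CoxeterMatrix.E₆) (by simp [IsType, typeList]) F).of_equiv e.symm
  · exact (hasThree_group (l := 7) (M := CoxeterMatrix.E₇) (by simp [IsType, typeList]) F).of_equiv e.symm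
  · exact (hasThree_group (l := 8) (M := CoxeterMatrix.E₈) (by simp [IsType, typeList]) F).of_equiv e.symm

end Chev

section Fold

variable {D : ChevalleyDatum} {l : ℕ} {M' : CoxeterMatrix (Fin l)} {hp : IsType D l M'} {K : Type u} [Field K]
  {m : ℕ} {M : CoxeterMatrix (Fin m)} {A : Fin m → Fin m → ℤ}
  {J : Fin m → List (Fin l)} {L : List (List ℕ)} {σ : GL D.Idx K →* GL D.Idx K} {ρ ρ' : ℕ → ℕ}
  {f : ℕ → K → K} {G : Subgroup (GL D.Idx K)}

theorem node_fold (FG : FoldGrp hp K J L σ ρ ρ' f G) {i : Fin m} {r : ℕ}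
    {o : List ℕ} (N : NodeOK D J L ρ i r o) {φ : K →+* K} (hf : ∀ s ∈ r :: o, ∀ t, f s t = φ t)
    (h2 : (2 : K) = 0) :
    ∃ a ∈ (R D hp K J σ (sr i)).subgroupOf G, a * a = 1 ∧ a ≠ 1 ∧
      (⟨nI hp K (J i), FG.nG i⟩ : ↥G) * a * (⟨nI hp K (J i), FG.nG i⟩ : ↥G)⁻¹ =
        a * (⟨nI hp K (J i), FG.nG i⟩ : ↥G) * a := by
  have h2' : (2 : Fx φ (o.length + 1)) = 0 := by
    apply Subtype.ext
    exact h2
  refine node_sl h2' (Phi FG N hf) ?_ ?_ (Phi_wS FG N hf)
  · rw [mem_X_iff FG N hf]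
    exact ⟨1, rfl⟩
  · intro h1
    have h3 : (1 : Fx φ (o.length + 1)) = 0 := by
      refine Phi_up_injective FG N hf ?_
      show Phi FG N hf (up 1) = Phi FG N hf (up 0)
      rw [h1, up_zero, map_one]
    exact one_ne_zero h3

theorem hasThree_fold [Finite K] [CharP K 2] (h : IsCartan M A)
    (FD : FoldData D M A J L) (FG : FoldGrp hp K J L σ ρ ρ' f G) (r : Fin m → ℕ) (o : Fin m → List ℕ)
    (N : ∀ i, NodeOK D J L ρ i (r i) (o i)) {φ : K →+* K} (hf : ∀ i, ∀ s ∈ r i :: o i, ∀ t, f s t = φ t) :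
    H762.HasThree ↥G := by
  have : Fact (Nat.Prime 2) := ⟨Nat.prime_two⟩
  exact ⟨m, M, A, h, _, _, _, Nodes.RGDFold.finite_W (hp := hp) M.toCoxeterSystem h FD,
    Nodes.RGDFold.rgd M.toCoxeterSystem h FD FG 2, Nodes.RGDFold.G1_eq_top M.toCoxeterSystem h FD FG 2,
    fun i => node_fold FG (N i) (hf i) two_eq_zero⟩

end Fold

theorem hasThree_D4 {K : Type u} [Field K] [Fintype K] {q : ℕ} (hq : IsPrimePow q) (hK : Fintype.card K = q ^ 3)
    [CharP K 2] : H762.HasThree ↥(twistedD4 K q) := by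
  obtain ⟨φ, hφ⟩ := D4Fixed.exists_frob hq hK
  exact hasThree_fold Nodes.RGDTwD4.isCartan Nodes.RGDTwD4.foldData
    (Nodes.RGDTwD4.foldGrp hφ (D4Fixed.twisted_le_fix hK hφ)) _ _ Nodes.RGDTwNode.D4.nodeOK (φ := φ)
    fun i s hs t => by rw [Nodes.RGDTwNode.D4.eps_one i s hs, Int.cast_one, one_mul]

theorem hasThree_E6 {K : Type u} [Field K] [Fintype K] {q : ℕ} (hq : IsPrimePow q) (hK : Fintype.card K = q ^ 2)
    [CharP K 2] : H762.HasThree ↥(twistedE6 K q) := by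
  obtain ⟨φ, hφ, hqq⟩ := TwE6Basic.exists_frob hq hK
  exact hasThree_fold Nodes.RGDTwE6.isCartan Nodes.RGDTwE6.foldData
    (Nodes.RGDTwE6.foldGrp hφ hqq) _ _ Nodes.RGDTwNode.E6.nodeOK (φ := φ)
    fun i s hs t => by rw [Nodes.RGDTwNode.E6.eps_one i s hs, Int.cast_one, one_mul]

/-- **`²E₆(q)`, `³D₄(q)` of characteristic two.** -/
theorem hasThree_tw {G : Type*} [Group G] (hG : Cfsg.IsTwistedE6D4Char 2 G) : H762.HasThree G := by
  obtain ⟨K, _, _, _, q, hq, ⟨hK, ⟨e⟩⟩ | ⟨hK, ⟨e⟩⟩⟩ := hG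
  · exact (hasThree_E6 hq hK).of_equiv e.symm
  · exact (hasThree_D4 hq hK).of_equiv e.symm

end Cfsg.Agent.H685.Three
end

-- part: H685/ThreeWitt
section
/-!
helper685 (task 177, S3263): `HasThree` for the symplectic, unitary and even-dimensional orthogonal groups of
characteristic two.
-/

set_option autoImplicit false
set_option linter.unusedSectionVars false

namespace Cfsg.Agent.H685.Three

open Cfsg Cfsg.Agent.ChevalleyStructure.CoxeterGeom Cfsg.Agent.Tits.Roots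
open Cfsg.Agent.Nodes
open Cfsg.Agent.Nodes.Comb Cfsg.Agent.Nodes.Reps Cfsg.Agent.Nodes.WittRoot Cfsg.Agent.Nodes.BNOf
open Cfsg.Agent.Nodes.RGDLib Cfsg.Agent.Nodes.WittAll
open Cfsg.Agent.TitsThree Cfsg.Agent.TitsThree.Siegel Cfsg.Agent.TitsThree.WittFrame
  Cfsg.Agent.TitsThree.WittWeyl Cfsg.Agent.TitsThree.FrameCN

/-! ### The relations in a frame -/

section FrameLevel

variable {F : Type*} [Field F] {V : Type*} [AddCommGroup V] [Module F V] {H : HForm F V}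
  {ι : Type*} [DecidableEq ι] (Fr : Frame H ι)

theorem frame_X_sq (h2 : (2 : F) = 0) (x y : ι × Bool) : Fr.X x y 1 * Fr.X x y 1 = 1 := by
  rw [← Fr.X_add, one_add_one_eq_two, h2, Fr.X_zero]

theorem frame_nX_conj {x y : ι × Bool} (hxy : x.1 ≠ y.1) :
    nX Fr x y 1 * Fr.X x y 1 * (nX Fr x y 1)⁻¹ = Fr.X (neg y) (neg x) (-(1 : F)⁻¹) := by
  rw [nX_conj_X Fr hxy one_ne_zero]
  congr 1
  norm_num

theorem frame_X_ne {x y : ι × Bool} (hxy : x.1 ≠ y.1) (s : F) : Fr.X x y 1 ≠ Fr.X (neg y) (neg x) s := by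
  intro e
  have h1 : Fr.X x y 1 (Fr.b (neg y)) = Fr.X (neg y) (neg x) s (Fr.b (neg y)) := by rw [e]
  rw [X_apply_neg Fr hxy, X_apply_of_ne Fr (x := neg y) (y := neg x) hxy.symm (ne_neg_self (neg y))
    (fun h => hxy (by
      have h3 := congrArg Prod.fst h
      simpa using h3.symm)), one_smul, add_eq_left] at h1
  have h3 := Fr.hb_self_neg x
  rw [h1, H.zero_left] at h3
  exact Fr.η_ne _ h3.symm

theorem frame_Z_sq (h2 : (2 : F) = 0) (x : ι × Bool) {p : Fr.Adm} (hw : H.h p.w p.w = 0) :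
    Fr.Z x p * Fr.Z x p = 1 := by
  have hpp : p * p = 1 := by
    apply Frame.Adm.ext
    · show p.w + p.w = 0
      rw [← two_smul F, h2, zero_smul]
    · show p.c + p.c - H.ε⁻¹ * H.h p.w p.w = 0
      rw [hw, mul_zero, sub_zero, ← two_mul, h2, zero_mul]
  rw [← Fr.Z_mul, hpp, Fr.Z_one]

theorem sigma_c (h2 : (2 : F) = 0) {p : Fr.Adm} (hw : H.h p.w p.w = 0) : H.σ p.c = H.ε * p.c := by
  have h1 := p.herm
  rw [hw] at h1
  linear_combination h1 - (H.ε * p.c) * h2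

theorem frame_nZ_eq (h2 : (2 : F) = 0) (x : ι × Bool) {p : Fr.Adm} (hc : p.c ≠ 0) (hw : H.h p.w p.w = 0) :
    nZ Fr x p = Fr.Z x p * Fr.Z (neg x) (Frame.Adm.smul (-(Fr.η x * (H.σ p.c)⁻¹)) p) * Fr.Z x p := by
  have hε := H.ε_ne
  have h1 : H.ε * p.c * (H.σ p.c)⁻¹ = 1 := by
    rw [sigma_c Fr h2 hw]
    exact mul_inv_cancel₀ (mul_ne_zero hε hc)
  rw [nZ, h1, Frame.Adm.one_smul]

theorem frame_nZ_conj (h2 : (2 : F) = 0) (x : ι × Bool) {p : Fr.Adm} (hc : p.c ≠ 0) (hw : H.h p.w p.w = 0) :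
    nZ Fr x p * Fr.Z x p * (nZ Fr x p)⁻¹ = Fr.Z (neg x) (Frame.Adm.smul (-(Fr.η x * (H.σ p.c)⁻¹)) p) := by
  have hε := H.ε_ne
  rw [nZ_conj_Z Fr x p hc p]
  have h3 : _root_.Cfsg.Agent.TitsThree.WittWeyl.refl Fr p hc p = p := by
    apply Frame.Adm.ext
    · rw [refl_w, hw, mul_zero, zero_smul, add_zero]
    · rfl
  rw [h3]
  congr 2
  rw [sigma_c Fr h2 hw, mul_inv]
  linear_combination (Fr.η x * H.ε⁻¹ * p.c⁻¹) * h2

end FrameLevel

/-! ### Models -/

section Model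

open Cfsg.Agent.Nodes.TypeC
open Cfsg.Agent.Nodes.WittRGD (rg_sr)

variable {F : Type*} [Field F] {V : Type*} [AddCommGroup V] [Module F V] {H : HForm F V} {n : ℕ}
  {Fr : Frame H (Fin n)} {K : Type*} [Group K] (M : Model Fr K)

/-- a lineStab element is not a type I element -/
theorem not_line_X {m : ℕ} (Fr : Frame H (Fin m)) {x y : Fin m × Bool} (hxy : x.1 ≠ y.1) {a : F}
    (ha : Fr.X x y 1 (Fr.b (neg y)) = a • Fr.b (neg y)) : False := by
  rw [X_apply_neg Fr hxy] at ha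
  have h1 : H.h (Fr.b (neg y) + (1 : F) • Fr.b x) (Fr.b (neg x)) = H.h (a • Fr.b (neg y)) (Fr.b (neg x)) := by rw [ha]
  rw [H.add_left, H.smul_left, H.smul_left, Fr.hb_of_ne (x := neg y) (y := neg x) hxy.symm, mul_zero, zero_add,
    Fr.hb_self_neg, one_mul] at h1
  exact Fr.η_ne _ h1

theorem not_line_Z {m : ℕ} (Fr : Frame H (Fin m)) {x : Fin m × Bool} {q : Fr.Adm} (hq : q.c ≠ 0) {a : F}
    (ha : Fr.Z x q (Fr.b (neg x)) = a • Fr.b (neg x)) : False := by
  rw [Z_apply_neg] at ha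
  have hη := Fr.η_ne x
  have h1 : H.h (Fr.b (neg x) + Fr.η x • q.w + (q.c * Fr.η x) • Fr.b x) (Fr.b (neg x)) =
      H.h (a • Fr.b (neg x)) (Fr.b (neg x)) := by rw [ha]
  rw [H.add_left, H.add_left, H.smul_left, H.smul_left, H.smul_left, Fr.hb_self, Fr.h0' _ (Fr.ok_mem q.ok),
    Fr.hb_self_neg, mul_zero, mul_zero, zero_add, zero_add] at h1
  exact mul_ne_zero (mul_ne_zero hq hη) (Fr.η_ne _) h1

/-- **The nodes of a model of type `C`.** -/
theorem nodeThree_C {p : ℕ} (hA : AmbT Fr p M.I) (h2 : (2 : F) = 0) {p0 : Fr.Adm} (hp0 : p0.c ≠ 0)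
    (hw : H.h p0.w p0.w = 0) :
    H762.NodeThree (fun i => M.φ ⟨Nodes.WittRGD.nn Fr p0 i, nn_mem hA p0 i⟩) (WittModel.X M) := by
  intro i
  -- the element at the level of the frame
  obtain ⟨g, hg, hgX, b, hgg, hn, hb, hl⟩ : ∃ (g : V ≃ₗ[F] V) (_ : g ∈ M.I) (_ : g ∈ WittRoot.rg Fr (sr i))
      (b : V ≃ₗ[F] V), g * g = 1 ∧ Nodes.WittRGD.nn Fr p0 i = g * b * g ∧
      Nodes.WittRGD.nn Fr p0 i * g * (Nodes.WittRGD.nn Fr p0 i)⁻¹ = b ∧ ∃ v, ∀ a : F, g v ≠ a • v := by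
    by_cases hi : (i : ℕ) + 1 < n
    · have hnx : nx i = (⟨i + 1, hi⟩, false) := by unfold nx; rw [dif_pos hi]
      have hne : ((i, true) : Fin n × Bool).1 ≠ (nx i).1 := by rw [hnx]; simp [Fin.ext_iff]
      have hnn : Nodes.WittRGD.nn Fr p0 i = nX Fr (i, true) (nx i) 1 := by unfold Nodes.WittRGD.nn; rw [if_pos hi]
      refine ⟨Fr.X (i, true) (nx i) 1, M.hX _ _ _, ?_, Fr.X (neg (nx i)) (neg (i, true)) (-(1 : F)⁻¹),
        frame_X_sq Fr h2 _ _, ?_, ?_, Fr.b (neg (nx i)), fun a ha => not_line_X Fr hne ha⟩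
      · rw [rg_sr, PG_ne Fr hne]
        exact ⟨1, rfl⟩
      · rw [hnn, nX]
      · rw [hnn, frame_nX_conj Fr hne]
    · have hnx : nx i = (i, true) := by unfold nx; rw [dif_neg hi]
      have hnn : Nodes.WittRGD.nn Fr p0 i = nZ Fr (i, true) p0 := by unfold Nodes.WittRGD.nn; rw [if_neg hi]
      refine ⟨Fr.Z (i, true) p0, M.hZ _ _, ?_,
        Fr.Z (neg (i, true)) (Frame.Adm.smul (-(Fr.η (i, true) * (H.σ p0.c)⁻¹)) p0),
        frame_Z_sq Fr h2 _ hw, ?_, ?_, Fr.b (neg (i, true)), fun a ha => not_line_Z Fr hp0 ha⟩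
      · rw [rg_sr, hnx, PG_self]
        exact ⟨p0, rfl⟩
      · rw [hnn, frame_nZ_eq Fr h2 _ hp0 hw]
      · rw [hnn, frame_nZ_conj Fr h2 _ hp0 hw]
  obtain ⟨v, hv⟩ := hl
  refine ⟨M.φ ⟨g, hg⟩, WittModel.mem_X_of M hg hgX, ?_, ?_, ?_⟩
  · rw [← map_mul]
    have h1 : (⟨g, hg⟩ : M.I) * ⟨g, hg⟩ = 1 := Subtype.ext hgg
    rw [h1, map_one]
  · intro h1
    obtain ⟨a, ha⟩ := M.ker v ⟨g, hg⟩ h1
    exact hv a ha
  · show M.φ ⟨Nodes.WittRGD.nn Fr p0 i, nn_mem hA p0 i⟩ * M.φ ⟨g, hg⟩ *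
      (M.φ ⟨Nodes.WittRGD.nn Fr p0 i, nn_mem hA p0 i⟩)⁻¹ =
      M.φ ⟨g, hg⟩ * M.φ ⟨Nodes.WittRGD.nn Fr p0 i, nn_mem hA p0 i⟩ * M.φ ⟨g, hg⟩
    rw [← map_inv, ← map_mul, ← map_mul, ← map_mul, ← map_mul]
    congr 1
    apply Subtype.ext
    exact node_core hgg hn hb

theorem hasThree_C (hA : AmbT Fr 2 M.I) [Finite V] [CharP F 2] {p0 : Fr.Adm} (hp0 : p0.c ≠ 0)
    (hw : H.h p0.w p0.w = 0) (hn : 0 < n) : H762.HasThree K := by
  have : Fact (Nat.Prime 2) := ⟨Nat.prime_two⟩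
  exact ⟨n, CoxeterMatrix.B n, TypeC.A n, TypeC.isCartan n, _, _, _, finite_W (CoxeterMatrix.B n).toCoxeterSystem,
    rgdC_model M hA hp0 _, WittModel.G1_eq_top _ hn _, nodeThree_C M hA two_eq_zero hp0 hw⟩

end Model

/-! ### Unitary and symplectic groups -/

open Cfsg.Agent.Nodes.WittU Cfsg.Agent.Nodes.WittInst

theorem hasThree_PSU {F : Type*} [Field F] [Fintype F] {q N : ℕ} (hF : Fintype.card F = q ^ 2) (hN : 3 ≤ N)
    [CharP F 2] : H762.HasThree (PSU N F q) := by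
  have : Fact (Nat.Prime 2) := ⟨Nat.prime_two⟩
  obtain ⟨m, hm⟩ : ∃ m, N = 2 * m ∨ N = 2 * m + 1 := ⟨N / 2, by omega⟩
  obtain ⟨W, -⟩ := exists_wframe hF hm
  obtain ⟨p0, hp0, hw⟩ := exists_adm hF W
  exact hasThree_C (KInstU.model hF hN W) (AmbT.of_amb (amb_U hF W) 2) hp0 (by rw [hw]; exact HForm.zero_left _ _)
    (by omega)

theorem hasThree_PSp {F : Type*} [Field F] [Finite F] {m : ℕ} (hm : 1 ≤ m) [CharP F 2] :
    H762.HasThree (PSp m F) := by
  have : Fact (Nat.Prime 2) := ⟨Nat.prime_two⟩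
  exact hasThree_C (KInstSp.model m F) (AmbT.of_amb amb_Sp 2) (p0 := SpIdent.adm 1) one_ne_zero
    (HForm.zero_left _ _) hm

/-! ### Orthogonal groups -/

section Orthogonal

open QuadraticMap
open Cfsg.Agent.LieClassical Cfsg.Agent.LieClassical.OrthCore Cfsg.Agent.LieClassical.OrthTrans
open Cfsg.Agent.LieClassical.OrthSimple Cfsg.Agent.LieClassical.OrthFinite
open Cfsg.Agent.LieClassical.OrthForms
open Cfsg.Agent.TitsThree.WBridge Cfsg.Agent.TitsThree.KSideO Cfsg.Agent.TitsThree.StdData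

variable {F : Type*} [Field F] {m : ℕ}

theorem hasThree_PO_minus [Finite F] [CharP F 2] (a b : F)
    (hab : ∀ z₁ z₂ : F, z₁ ^ 2 + a * z₁ * z₂ + b * z₂ ^ 2 = 0 → z₁ = 0 ∧ z₂ = 0)
    (hm : 2 ≤ m) : H762.HasThree (Cfsg.POmega F (Cfsg.quadFormMinus m F a b)) := by
  have : Fact (Nat.Prime 2) := ⟨Nat.prime_two⟩
  have h2 : (2 : F) = 0 := two_eq_zero
  rw [← coe_minusForm]
  have hG : _root_.Cfsg.Agent.LieClassical.OrthTrans.Good (minusForm m F a b) := by
    apply good_of_finite (nondeg_minusForm m F a b hab)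
    rw [Module.finrank_fintype_fun_eq_card, Fintype.card_sum, Fintype.card_sum, Fintype.card_fin,
      Fintype.card_fin]
    omega
  have hp : ((embMinus m F a b hab).ngt ⟨(1, 0), -nf a b (1, 0), rfl⟩).c ≠ 0 := by
    change (1 : F)⁻¹ * (-nf a b (1, 0)) ≠ 0
    simp [nf]
  have hA : AmbT (toFrame (wminus m F a b hab)) 2 (E (minusForm m F a b)) :=
    ambT_O _ fun g hg hg2 hb => fixp_minus a b hab h2 hm hG hg hg2 hb
  refine hasThree_C (model (wminus m F a b hab) hG ⟨_, hp⟩) hA hp ?_ (by omega)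
  rw [HO_h, polar_self', h2, zero_mul]

end Orthogonal

section Plus

open Cfsg.Agent.TitsThree.SiegelGen
open Cfsg.Agent.LieClassical Cfsg.Agent.LieClassical.OrthCore Cfsg.Agent.LieClassical.OrthTrans
open Cfsg.Agent.LieClassical.OrthSimple Cfsg.Agent.LieClassical.OrthFinite
open Cfsg.Agent.LieClassical.OrthForms
open Cfsg.Agent.TitsThree.WBridge Cfsg.Agent.TitsThree.KSideO Cfsg.Agent.TitsThree.StdData

variable {F : Type*} [Field F] {m : ℕ}

variable {ι : Type} [Fintype ι] [DecidableEq ι] {Q : QuadraticForm F (ι → F)} {n : ℕ}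

theorem nodeThree_D (W : WFrame (PO Q) (n + 2)) (hG : _root_.Cfsg.Agent.LieClassical.OrthTrans.Good Q) (hA : Amb (toFrame W) (E Q)) (h2 : (2 : F) = 0) :
    H762.NodeThree (fun i => toPOmega hG ⟨WittRGDD.nn (toFrame W) i, WittRGDD.nn_mem hA i⟩) (XD W (toPOmega hG)) := by
  intro i
  have hne : ((i, true) : Fin (n + 2) × Bool).1 ≠ (TypeD.nx i).1 := TypeD.ok_nx i
  have hg : (toFrame W).X (i, true) (TypeD.nx i) 1 ∈ E Q := X_mem W _ _ _
  have hnn : WittRGDD.nn (toFrame W) i = nX (toFrame W) (i, true) (TypeD.nx i) 1 := rfl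
  have hgg := frame_X_sq (toFrame W) h2 (i, true) (TypeD.nx i)
  refine ⟨toPOmega hG ⟨(toFrame W).X (i, true) (TypeD.nx i) 1, hg⟩, ?_, ?_, ?_, ?_⟩
  · refine Subgroup.mem_map_of_mem _ (Subgroup.mem_subgroupOf.2 ?_)
    show (toFrame W).X (i, true) (TypeD.nx i) 1 ∈ WittRGDD.rg (toFrame W) (sr i)
    rw [WittRGDD.rg_sr]
    exact ⟨1, rfl⟩
  · rw [← map_mul]
    have h1 : (⟨(toFrame W).X (i, true) (TypeD.nx i) 1, hg⟩ : E Q) * ⟨(toFrame W).X (i, true) (TypeD.nx i) 1, hg⟩ = 1 :=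
      Subtype.ext hgg
    rw [h1, map_one]
  · intro h1
    have h3 : (⟨(toFrame W).X (i, true) (TypeD.nx i) 1, hg⟩ : E Q) ∈ Subgroup.center (E Q) :=
      ker_toPOmega hG h1
    rw [Subgroup.mem_center_iff] at h3
    have h4 := congrArg Subtype.val (h3 ⟨WittRGDD.nn (toFrame W) i, WittRGDD.nn_mem hA i⟩)
    have h5 : nX (toFrame W) (i, true) (TypeD.nx i) 1 * (toFrame W).X (i, true) (TypeD.nx i) 1 =
      (toFrame W).X (i, true) (TypeD.nx i) 1 * nX (toFrame W) (i, true) (TypeD.nx i) 1 := h4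
    have h6 := frame_nX_conj (toFrame W) hne
    rw [h5, mul_inv_cancel_right] at h6
    exact frame_X_ne (toFrame W) hne _ h6
  · show toPOmega hG ⟨WittRGDD.nn (toFrame W) i, WittRGDD.nn_mem hA i⟩ * toPOmega hG ⟨_, hg⟩ *
      (toPOmega hG ⟨WittRGDD.nn (toFrame W) i, WittRGDD.nn_mem hA i⟩)⁻¹ =
      toPOmega hG ⟨_, hg⟩ * toPOmega hG ⟨WittRGDD.nn (toFrame W) i, WittRGDD.nn_mem hA i⟩ * toPOmega hG ⟨_, hg⟩
    rw [← map_inv, ← map_mul, ← map_mul, ← map_mul, ← map_mul]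
    (with_reducible congr 1)
    apply Subtype.ext
    show WittRGDD.nn (toFrame W) i * _ * (WittRGDD.nn (toFrame W) i)⁻¹ = _ * WittRGDD.nn (toFrame W) i * _
    rw [hnn]
    exact node_core hgg rfl (frame_nX_conj (toFrame W) hne)

theorem hasThree_PO_plus {F : Type*} [Field F] [Finite F] [CharP F 2] (n : ℕ) :
    H762.HasThree (Cfsg.POmega F (Cfsg.quadFormPlus (n + 3) F)) := by
  have : Fact (Nat.Prime 2) := ⟨Nat.prime_two⟩
  rw [← coe_plusForm]
  have hG : _root_.Cfsg.Agent.LieClassical.OrthTrans.Good (plusForm (n + 3) F) := by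
    apply good_of_finite (nondeg_plusForm (n + 3) F)
    rw [Module.finrank_fintype_fun_eq_card, Fintype.card_sum, Fintype.card_fin]
    omega
  exact ⟨n + 3, TypeD.M (n + 1), TypeD.A (n + 1), TypeD.isCartan (n + 1), _, _, _,
    TypeD.finite_W (TypeD.M (n + 1)).toCoxeterSystem,
    rgdD_model (wplus (n + 3) F) hG (amb_plus _) (adm_plus _) _,
    G1D_eq_top (wplus (n + 3) F) (toPOmega hG) (toPOmega_surjective hG) (adm_plus _) _,
    nodeThree_D (wplus (n + 3) F) hG (amb_plus _) two_eq_zero⟩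

end Plus

/-- **The symplectic, unitary and even-dimensional orthogonal groups of characteristic two.** -/
theorem hasThree_witt {G : Type*} [Group G] (hG : Cfsg.IsPSpChar 2 G ∨ Cfsg.IsPSUChar 2 G ∨
    Cfsg.IsPOmegaPlusChar 2 G ∨ Cfsg.IsPOmegaMinusChar 2 G) : H762.HasThree G := by
  rcases hG with hG | hG | hG | hG
  · obtain ⟨F, _, _, _, m, hm, -, ⟨e⟩⟩ := hG
    exact (hasThree_PSp (by omega)).of_equiv e.symm
  · obtain ⟨F, _, _, _, n, q, hF, hn, -, ⟨e⟩⟩ := hG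
    exact (hasThree_PSU hF hn).of_equiv e.symm
  · obtain ⟨F, _, _, _, m, hm, ⟨e⟩⟩ := hG
    obtain ⟨n, rfl⟩ : ∃ n, m = n + 3 := ⟨m - 3, by omega⟩
    exact (hasThree_PO_plus n).of_equiv e.symm
  · obtain ⟨F, _, _, _, m, a, b, hm, hab, ⟨e⟩⟩ := hG
    exact (hasThree_PO_minus a b hab (by omega)).of_equiv e.symm

end Cfsg.Agent.H685.Three
end

private theorem dce_f6af48cfbb52 : _root_.True := by
  try have : _root_.True := by simp only [_root_.Cfsg.Agent.Nodes.RGDTypeA.ns.eq_1]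
  exact _root_.True.intro
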